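import Mathlib.GroupTheory.Nilpotent
import Mathlib.GroupTheory.Commutator.Basic
import Mathlib.GroupTheory.Frattini
import Mathlib.GroupTheory.SchurZassenhaus
import Cfsg.Agent.Lib.GroupB.Coprime
import Cfsg.Agent.Lib.Solvable.Frattini
import Cfsg.Agent.Lib.PLocal.SolvablePrimitive
import Cfsg.Agent.Lib.Core

/-! Elementary facts on nilpotent and solvable groups. -/

set_option autoImplicit false

namespace CfsgLib.Solvable.Basics

open Subgroup
open scoped commutatorElement

universe u

variable {G : Type u} [Group G]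

theorem inf_center_ne_bot [hn : Group.IsNilpotent G] (N : Subgroup G) [hN : N.Normal] (h : N ≠ ⊥) :
    N ⊓ center G ≠ ⊥ := by
  classical
  obtain ⟨n, hn'⟩ := hn.nilpotent'
  have hex : ∃ i, N ⊓ Subgroup.upperCentralSeries G i ≠ ⊥ := ⟨n, by rwa [hn', inf_top_eq]⟩
  have hi := Nat.find_spec hex
  rcases hj : Nat.find hex with _ | j
  · rw [hj, Subgroup.upperCentralSeries_zero, inf_bot_eq] at hi; exact absurd rfl hi
  rw [hj] at hi
  have hmin : N ⊓ Subgroup.upperCentralSeries G j = ⊥ := by
    by_contra hc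
    exact Nat.find_min hex (hj ▸ Nat.lt_succ_self j) hc
  intro hbot
  refine hi ((Subgroup.eq_bot_iff_forall _).mpr fun x hx => ?_)
  refine (Subgroup.eq_bot_iff_forall _).mp hbot x ⟨hx.1, mem_center_iff.mpr fun g => ?_⟩
  have h2 : ⁅x, g⁆ ∈ N ⊓ Subgroup.upperCentralSeries G j :=
    ⟨by rw [commutatorElement_def, mul_assoc, mul_assoc, ← mul_assoc g]
        exact mul_mem hx.1 (hN.conj_mem _ (inv_mem hx.1) g),
      Subgroup.mem_upperCentralSeries_succ_iff.mp hx.2 g⟩
  rw [hmin, mem_bot, commutatorElement_eq_one_iff_mul_comm] at h2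
  exact h2.symm

/-- Fitting: coprime action on an abelian group. -/
theorem centralizer_inf_commutator_eq_bot [Finite G] {A V : Subgroup G} [IsMulCommutative V]
    (hAV : A ≤ normalizer (V : Set G)) (hcop : (Nat.card A).Coprime (Nat.card V)) :
    (V ⊓ centralizer (A : Set G)) ⊓ ⁅V, A⁆ = ⊥ := by
  classical
  letI : CommGroup V := { (inferInstance : Group V) with mul_comm := fun a b => mul_comm' a b }
  letI := Fintype.ofFinite A
  let c : A → V →* V := fun a =>
    { toFun := fun v => ⟨(a : G) * v * (a : G)⁻¹, (CfsgLib.GroupB.Coprime.conj_mem_iff (hAV a.2)).mpr v.2⟩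
      map_one' := Subtype.ext (by simp)
      map_mul' := fun v w => Subtype.ext (by simp [mul_assoc]) }
  let f : V →* V := ∏ a : A, c a
  have hle : ⁅V, A⁆ ≤ f.ker.map V.subtype := by
    rw [commutator_le]
    intro v hv b hb
    have hm : ⁅v, b⁆ ∈ V := CfsgLib.GroupB.Coprime.commutator_le_of_le_normalizer hAV
      (commutator_mem_commutator hv hb)
    refine ⟨⟨⁅v, b⁆, hm⟩, MonoidHom.mem_ker.mpr ?_, rfl⟩
    have e : (⟨⁅v, b⁆, hm⟩ : V) = ⟨v, hv⟩ * (c ⟨b, hb⟩ ⟨v, hv⟩)⁻¹ := Subtype.ext (by
      rw [Subgroup.coe_mul, Subgroup.coe_inv]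
      show v * b * v⁻¹ * b⁻¹ = v * (b * v * b⁻¹)⁻¹
      group)
    have e2 : f (c ⟨b, hb⟩ ⟨v, hv⟩) = f ⟨v, hv⟩ := by
      simp only [f, MonoidHom.finsetProd_apply]
      refine Fintype.prod_equiv (Equiv.mulRight (⟨b, hb⟩ : A)) _ _ fun a => Subtype.ext ?_
      show (a : G) * (b * v * b⁻¹) * (a : G)⁻¹ = ((a : G) * b) * v * ((a : G) * b)⁻¹
      group
    rw [e, map_mul, map_inv, e2, mul_inv_cancel]
  rw [Subgroup.eq_bot_iff_forall]
  intro x hx
  obtain ⟨v, hv, rfl⟩ := hle hx.2
  have hfix : ∀ a : A, c a v = v := fun a => Subtype.ext (by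
    show (a : G) * v * (a : G)⁻¹ = v
    rw [show (a : G) * v = v * a from mem_centralizer_iff.mp hx.1.2 a a.2, mul_inv_cancel_right])
  have h1 : v ^ Fintype.card A = 1 := by
    rw [← MonoidHom.mem_ker.mp hv]
    simp only [f, MonoidHom.finsetProd_apply, hfix]
    rw [Finset.prod_const, Finset.card_univ]
  have h2 : orderOf v = 1 := Nat.eq_one_of_dvd_coprimes hcop
    (by rw [Nat.card_eq_fintype_card]; exact orderOf_dvd_of_pow_eq_one h1) (orderOf_dvd_natCard v)
  rw [orderOf_eq_one_iff] at h2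
  rw [h2]; rfl

theorem le_centralizer_of_fix_prime [Finite G] {A V : Subgroup G} [IsMulCommutative V]
    (hAV : A ≤ normalizer (V : Set G)) (hcop : (Nat.card A).Coprime (Nat.card V))
    (hΩ : ∀ v ∈ V, (orderOf v).Prime → ∀ a ∈ A, a * v = v * a) : A ≤ centralizer (V : Set G) := by
  have hb : ⁅V, A⁆ = ⊥ := by
    by_contra hne
    obtain ⟨p, hp, hd⟩ := Nat.exists_prime_and_dvd (mt Subgroup.card_eq_one.mp hne)
    haveI := Fact.mk hp
    obtain ⟨x, hx⟩ := exists_prime_orderOf_dvd_card' p hd
    have hx' : orderOf (x : G) = p := by rwa [Subgroup.orderOf_coe]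
    have hxV : (x : G) ∈ V := CfsgLib.GroupB.Coprime.commutator_le_of_le_normalizer hAV x.2
    have h1 : (x : G) ∈ (V ⊓ centralizer (A : Set G)) ⊓ ⁅V, A⁆ :=
      ⟨⟨hxV, mem_centralizer_iff.mpr fun a ha => hΩ _ hxV (hx' ▸ hp) a ha⟩, x.2⟩
    rw [centralizer_inf_commutator_eq_bot hAV hcop, mem_bot] at h1
    rw [h1, orderOf_one] at hx'
    exact hp.ne_one hx'.symm
  rw [le_centralizer_iff]
  exact commutator_eq_bot_iff_le_centralizer.mp hb

/-- A normal subgroup that is nilpotent modulo `Φ(G)` is nilpotent. -/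
theorem isNilpotent_of_mod_frattini [Finite G] {H : Subgroup G} [H.Normal] (hΦ : frattini G ≤ H)
    (h : Group.IsNilpotent (H.map (QuotientGroup.mk' (frattini G)))) : Group.IsNilpotent H := by
  have e : Group.IsNilpotent H ↔ ∀ (p : ℕ) (_hp : Fact p.Prime) (P : Sylow p H), (P : Subgroup H).Normal :=
    (Group.isNilpotent_of_finite_tfae (G := H)).out 0 3
  refine e.mpr fun p hp P => ?_
  haveI := hp
  let q := QuotientGroup.mk' (frattini G)
  let qH : H →* H.map q := q.subgroupMap H
  haveI := h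
  let Pb : Sylow p (H.map q) := P.mapSurjective (MonoidHom.subgroupMap_surjective q H)
  have e' : Group.IsNilpotent (H.map q) ↔
      ∀ (p : ℕ) (_hp : Fact p.Prime) (P : Sylow p (H.map q)), (P : Subgroup (H.map q)).Normal :=
    (Group.isNilpotent_of_finite_tfae (G := H.map q)).out 0 3
  haveI hPb : (Pb : Subgroup (H.map q)).Normal := e'.mp h p hp Pb
  haveI : (Pb : Subgroup (H.map q)).Characteristic := Sylow.characteristic_of_normal Pb inferInstance
  haveI : (H.map q).Normal := (inferInstance : H.Normal).map _ (QuotientGroup.mk'_surjective _)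
  set K : Subgroup G := ((Pb : Subgroup (H.map q)).map (H.map q).subtype).comap q with hK
  haveI hKn : K.Normal := (inferInstance : ((Pb : Subgroup (H.map q)).map (H.map q).subtype).Normal).comap _
  have hPK : (P : Subgroup H).map H.subtype ≤ K := by
    rintro _ ⟨x, hx, rfl⟩
    exact ⟨qH x, ⟨x, hx, rfl⟩, rfl⟩
  have hKle : K ≤ (P : Subgroup H).map H.subtype ⊔ frattini G := by
    rintro k ⟨y, ⟨x, hx, rfl⟩, hy⟩
    have h1 : (x : G)⁻¹ * k ∈ frattini G := QuotientGroup.eq.mp hy
    rw [show k = (x : G) * ((x : G)⁻¹ * k) by group]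
    exact mul_mem (mem_sup_left ⟨x, hx, rfl⟩) (mem_sup_right h1)
  have hKH : K ≤ H := hKle.trans (sup_le (map_subtype_le _) hΦ)
  let PK : Sylow p K := Sylow.ofCard (((P : Subgroup H).map H.subtype).subgroupOf K) (by
    rw [Nat.card_congr (Subgroup.subgroupOfEquivOfLe hPK).toEquiv, card_subtype,
      P.card_eq_multiplicity]
    refine congrArg (p ^ ·) (le_antisymm ?_ ((Nat.factorization_le_iff_dvd Nat.card_pos.ne'
      Nat.card_pos.ne').mpr (Subgroup.card_dvd_of_le hKH) p))
    refine (hp.out.pow_dvd_iff_le_factorization Nat.card_pos.ne').mp ?_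
    rw [← P.card_eq_multiplicity, ← card_subtype H (P : Subgroup H)]
    exact Subgroup.card_dvd_of_le hPK)
  have hfr := Sylow.normalizer_sup_eq_top PK
  have hmap : (PK : Subgroup K).map K.subtype = (P : Subgroup H).map H.subtype :=
    subgroupOf_map_subtype _ _ |>.trans (inf_eq_left.mpr hPK)
  rw [hmap] at hfr
  have htop : normalizer ((P : Subgroup H).map H.subtype : Set G) = ⊤ := by
    refine frattini_nongenerating (top_le_iff.mp (hfr.ge.trans (sup_le le_sup_left ?_)))
    exact hKle.trans (sup_le (le_sup_of_le_left Subgroup.le_normalizer) le_sup_right)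
  have hn : ((P : Subgroup H).map H.subtype).Normal := Subgroup.normalizer_eq_top_iff.mp htop
  rw [← Subgroup.comap_map_eq_self_of_injective H.subtype_injective (P : Subgroup H)]
  exact hn.comap _

/-- A coatom of a solvable group has prime power index. -/
theorem index_coatom (n : ℕ) : ∀ (G : Type u) [Group G] [Finite G] [Group.IsSolvable G],
    Nat.card G = n → ∀ M : Subgroup G, IsCoatom M → IsPrimePow M.index := by
  induction n using Nat.strong_induction_on with
  | _ n ih =>
  intro G _ _ _ hn M hM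
  classical
  haveI : Nontrivial (Subgroup G) := ⟨⟨M, ⊤, hM.1⟩⟩
  haveI : Nontrivial G := Subgroup.nontrivial_iff.mp inferInstance
  obtain ⟨N, -, ⟨hNn, hN0⟩, hNmin⟩ := exists_minimal_le_of_wellFoundedLT
    (fun N : Subgroup G => N.Normal ∧ N ≠ ⊥) ⊤ ⟨inferInstance, top_ne_bot⟩
  haveI := hNn
  obtain ⟨hab, p, d, hp, hd, hcard⟩ := CfsgLib.PLocal.minNormal_solvable N hN0 (fun K hK hKN =>
    or_iff_not_imp_left.mpr fun hK0 => le_antisymm hKN (hNmin ⟨hK, hK0⟩ hKN))
  by_cases hNM : N ≤ M
  · have hlt : Nat.card (G ⧸ N) < n := by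
      rw [← hn, N.card_eq_card_quotient_mul_card_subgroup]
      exact lt_mul_of_one_lt_right Nat.card_pos (hcard ▸ Nat.one_lt_pow hd.ne' hp.one_lt)
    have h1 : IsCoatom (M.map (QuotientGroup.mk' N)) := by
      have hback : (M.map (QuotientGroup.mk' N)).comap (QuotientGroup.mk' N) = M :=
        Subgroup.comap_map_eq_self (by rw [QuotientGroup.ker_mk']; exact hNM)
      refine ⟨fun e => hM.1 (by rw [← hback, e, Subgroup.comap_top]), fun X hX => ?_⟩
      have : M < X.comap (QuotientGroup.mk' N) := by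
        rw [← hback]
        exact (Subgroup.comap_lt_comap_of_surjective (QuotientGroup.mk'_surjective N)).mpr hX
      rw [← Subgroup.map_comap_eq_self_of_surjective (QuotientGroup.mk'_surjective N) X, hM.2 _ this,
        Subgroup.map_top_of_surjective _ (QuotientGroup.mk'_surjective N)]
    have := ih _ hlt (G ⧸ N) rfl _ h1
    rwa [← Subgroup.index_comap_of_surjective _ (QuotientGroup.mk'_surjective N),
      Subgroup.comap_map_eq_self (by rw [QuotientGroup.ker_mk']; exact hNM)] at this
  · have hsup : N ⊔ M = ⊤ := hM.2 _ (lt_of_le_of_ne le_sup_right fun e => hNM (le_sup_left.trans e.ge))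
    have h1 : M.index ∣ p ^ d := by
      rw [← hcard]
      have := CfsgLib.GroupB.Coprime.relIndex_sup_of_le_normalizer (N := N) (K := M)
        (by rw [Subgroup.normalizer_eq_top]; exact le_top)
      rw [hsup, Subgroup.relIndex_top_right] at this
      have e2 : N.index = N.relIndex M := this
      have h3 : M.index * Nat.card M = N.index * Nat.card N := by
        rw [mul_comm, M.card_mul_index, mul_comm, N.card_mul_index]
      have h4 : N.index ∣ Nat.card M := e2 ▸ Subgroup.relIndex_dvd_card N M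
      obtain ⟨k, hk⟩ := h4
      rw [hk, ← mul_assoc, mul_comm M.index, mul_assoc] at h3
      exact Dvd.intro k (Nat.eq_of_mul_eq_mul_left (Nat.pos_of_ne_zero Subgroup.index_ne_zero_of_finite) h3)
    obtain ⟨i, -, hi⟩ := (Nat.dvd_prime_pow hp).mp h1
    rw [hi]
    refine ⟨p, i, hp.prime, Nat.pos_of_ne_zero fun e => hM.1 (Subgroup.index_eq_one.mp (by rw [hi, e, pow_zero])), rfl⟩

end CfsgLib.Solvable.Basics
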