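import Cfsg.Agent.Lib.GroupB.Coprime

/-! Coprime action with a fixed point subgroup of prime index. -/

set_option autoImplicit false
set_option linter.style.haveILetI false

namespace CfsgLib.Solvable.PrimeIndexFixed

open Subgroup
open scoped Pointwise commutatorElement

universe u

variable {X : Type u} [Group X] [Finite X]

/-- In an abelian group equal to its commutator with `A` no point is fixed. -/
theorem inf_centralizer_eq_bot {Q A : Subgroup X} (hAQ : A ≤ normalizer (Q : Set X))
    (hcop : (Nat.card A).Coprime (Nat.card Q)) (hQc : ∀ a ∈ Q, ∀ b ∈ Q, a * b = b * a) (hQA : Q ≤ ⁅Q, A⁆) :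
    Q ⊓ centralizer (A : Set X) = ⊥ := by
  classical
  letI : CommGroup Q := { (inferInstance : Group Q) with mul_comm := fun a b => Subtype.ext (hQc a a.2 b b.2) }
  cases nonempty_fintype ↥A
  let c : A → Q →* Q := fun a => MonoidHom.mk'
    (fun q => ⟨(a : X) * q * (a : X)⁻¹, (mem_normalizer_iff.mp (hAQ a.2) q).mp q.2⟩)
    (fun p q => Subtype.ext (by simp [mul_assoc]))
  let N : Q →* Q := MonoidHom.mk' (fun q => ∏ a, c a q) fun p q => by
    simp only [map_mul, Finset.prod_mul_distrib]
  have hNinv : ∀ (b : A) (q : Q), N (c b q) = N q := fun b q => by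
    show ∏ a, c a (c b q) = ∏ a, c a q
    refine Fintype.prod_equiv (Equiv.mulRight b) _ _ fun a => ?_
    apply Subtype.ext
    show (a : X) * ((b : X) * q * (b : X)⁻¹) * (a : X)⁻¹ = ((a * b : A) : X) * q * ((a * b : A) : X)⁻¹
    push_cast
    group
  have hle : Q ≤ N.ker.map Q.subtype := by
    refine hQA.trans (commutator_le.mpr fun q hq a ha => ?_)
    refine ⟨⟨q, hq⟩ * (c ⟨a, ha⟩ ⟨q, hq⟩)⁻¹, ?_, ?_⟩
    · show N (⟨q, hq⟩ * (c ⟨a, ha⟩ ⟨q, hq⟩)⁻¹) = 1
      rw [map_mul, map_inv, hNinv, mul_inv_cancel]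
    · show q * (a * q * a⁻¹)⁻¹ = q * a * q⁻¹ * a⁻¹
      group
  rw [eq_bot_iff]
  rintro q ⟨hq, hqc⟩
  obtain ⟨q', hq', rfl⟩ := hle hq
  have hN : N q' = 1 := hq'
  have hfix : ∀ a : A, c a q' = q' := fun a => Subtype.ext (by
    show (a : X) * q' * (a : X)⁻¹ = q'
    rw [show (a : X) * q' = q' * a from mem_centralizer_iff.mp hqc a a.2]; exact mul_inv_cancel_right _ _)
  have h2 : q' ^ Nat.card A = 1 := by
    rw [← hN]
    show q' ^ Nat.card A = ∏ a, c a q'
    simp [hfix, Nat.card_eq_fintype_card]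
  rw [Subgroup.mem_bot]
  have h3 : orderOf q' ∣ 1 := hcop ▸ Nat.dvd_gcd (orderOf_dvd_of_pow_eq_one h2) (orderOf_dvd_natCard q')
  simp [orderOf_eq_one_iff.mp (Nat.dvd_one.mp h3)]

theorem card_commutator (A K : Subgroup X) (hAK : A ≤ normalizer (K : Set X))
    (hcop : (Nat.card A).Coprime (Nat.card K)) (hsol : Group.IsSolvable K ∨ Group.IsSolvable A)
    {p : ℕ} [hp : Fact p.Prime] (hidx : (K ⊓ centralizer (A : Set X)).relIndex K = p) :
    Nat.card (⁅K, A⁆ : Subgroup X) = p := by
  classical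
  obtain ⟨⟨P, hP, hPA⟩, -⟩ := CfsgLib.GroupB.Coprime.invariant_sylow hAK hcop hsol p
  have hPp := hP.isPGroup
  haveI hnil : Group.IsNilpotent P := hPp.isNilpotent
  have hPs : Group.IsSolvable P := inferInstance
  have hcP : (Nat.card A).Coprime (Nat.card P) := hcop.coprime_dvd_right (card_dvd_of_le hP.1)
  set D := P ⊓ centralizer (A : Set X) with hD
  have hDidx : D.relIndex P = p := by
    set C := K ⊓ centralizer (A : Set X) with hC
    have hDC : D = C ⊓ P := by
      rw [hD, hC, inf_right_comm, inf_eq_right.mpr hP.1]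
    obtain ⟨j, hj⟩ : ∃ j, D.relIndex P = p ^ j := by
      obtain ⟨n, hn⟩ := hPp.exists_card_eq
      obtain ⟨j, -, hj⟩ := (Nat.dvd_prime_pow hp.out).mp (hn ▸ relIndex_dvd_card D P)
      exact ⟨j, hj⟩
    have hle : D.relIndex P ≤ p := by
      rw [hDC, inf_relIndex_right, ← hidx]
      exact relIndex_le_of_le_right hP.1 (by rw [hidx]; exact hp.out.ne_zero)
    rcases j with _ | _ | j
    · exfalso
      rw [pow_zero, relIndex_eq_one, le_inf_iff] at hj
      have h1 : Nat.card P ∣ Nat.card C := card_dvd_of_le (le_inf hP.1 hj.2)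
      have h2 := relIndex_mul_relIndex ⊥ C K bot_le inf_le_left
      rw [relIndex_bot_left, relIndex_bot_left, hidx] at h2
      have h3 : p ^ ((Nat.card K).factorization p + 1) ∣ Nat.card K := by
        rw [pow_succ, ← hP.2, ← h2]
        exact mul_dvd_mul_right h1 p
      exact absurd ((hp.out.pow_dvd_iff_le_factorization Nat.card_pos.ne').mp h3) (by omega)
    · rw [hj, pow_one]
    · rw [hj] at hle
      exact absurd hle (by
        rw [not_le]
        calc p = p ^ 1 := (pow_one p).symm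
          _ < _ := Nat.pow_lt_pow_right hp.out.one_lt (by omega))
  set Q := ⁅P, A⁆ with hQ
  have hQP : Q ≤ P := CfsgLib.GroupB.Coprime.commutator_le_of_le_normalizer hPA
  haveI hDn : (D.subgroupOf P).Normal := by
    refine Subgroup.normal_of_index_eq_minFac_card ?_
    obtain ⟨n, hn⟩ := hPp.exists_card_eq
    show D.relIndex P = _
    rw [hDidx, hn, Nat.Prime.pow_minFac hp.out]
    rintro rfl
    rw [pow_zero] at hn
    have := relIndex_dvd_card D P
    rw [hDidx, hn, Nat.dvd_one] at this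
    exact hp.out.ne_one this
  have hDQ : Q ≤ centralizer (D : Set X) := by
    rw [← commutator_eq_bot_iff_le_centralizer, hQ]
    refine commutator_commutator_eq_bot_of_rotate ?_ ?_
    · have : ⁅A, D⁆ = ⊥ := by
        rw [commutator_eq_bot_iff_le_centralizer, le_centralizer_iff]; exact inf_le_right
      rw [this, commutator_bot_left]
    · have h1 : ⁅D, P⁆ ≤ D := by
        rw [commutator_le]
        intro d hd x hx
        have h2 := hDn.conj_mem ⟨d⁻¹, inv_mem hd.1⟩ (D.inv_mem hd) ⟨x, hx⟩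
        rw [commutatorElement_def, mul_assoc, mul_assoc]
        refine D.mul_mem hd ?_
        simpa [Subgroup.mem_subgroupOf, mul_assoc] using h2
      rw [eq_bot_iff]
      refine (commutator_mono h1 le_rfl).trans ?_
      rw [le_bot_iff, commutator_eq_bot_iff_le_centralizer]
      exact inf_le_right
  have hQc : ∀ a ∈ Q, ∀ b ∈ Q, a * b = b * a := by
    haveI : ((D ⊓ Q).subgroupOf Q).Normal := ⟨fun x hx g => by
      rw [mem_subgroupOf] at hx ⊢
      have := mem_centralizer_iff.mp (hDQ g.2) (x : X) hx.1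
      push_cast
      rwa [← this, mul_inv_cancel_right]⟩
    have hidxQ : ((D ⊓ Q).subgroupOf Q).index ≤ p := by
      show (D ⊓ Q).relIndex Q ≤ p
      rw [inf_relIndex_right, ← hDidx]
      exact relIndex_le_of_le_right hQP (by rw [hDidx]; exact hp.out.ne_zero)
    have hcomm : ∀ a b : Q, a * b = b * a := by
      set E := (D ⊓ Q).subgroupOf Q
      have hEc : E ≤ Subgroup.center Q := fun x hx => Subgroup.mem_center_iff.mpr fun g =>
        Subtype.ext (mem_centralizer_iff.mp (hDQ g.2) (x : X) (mem_subgroupOf.mp hx).1).symm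
      have hQp : IsPGroup p Q := hPp.to_le hQP
      haveI : IsCyclic (Q ⧸ E) := by
        obtain ⟨k, hk⟩ := IsPGroup.iff_card.mp (hQp.to_quotient E)
        rcases k with _ | _ | k
        · haveI : Subsingleton (Q ⧸ E) := (Nat.card_eq_one_iff_unique.mp (by rw [hk, pow_zero])).1
          infer_instance
        · exact isCyclic_of_prime_card (p := p) (by rw [hk, pow_one])
        · exfalso
          rw [← index_eq_card] at hk
          rw [hk] at hidxQ
          exact absurd hidxQ (not_le.mpr (by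
            calc p = p ^ 1 := (pow_one p).symm
              _ < _ := Nat.pow_lt_pow_right hp.out.one_lt (by omega)))
      exact fun a b => commutative_of_cyclic_center_quotient (QuotientGroup.mk' E)
        (by rw [QuotientGroup.ker_mk']; exact hEc) a b
    exact fun a ha b hb => congrArg Subtype.val (hcomm ⟨a, ha⟩ ⟨b, hb⟩)
  have hQA : A ≤ normalizer (Q : Set X) :=
    le_sup_right.trans (CfsgLib.GroupB.Coprime.le_normalizer_commutator P A)
  have hQD : Q ⊓ centralizer (A : Set X) = ⊥ := inf_centralizer_eq_bot hQA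
    (hcP.coprime_dvd_right (card_dvd_of_le hQP)) hQc
    (CfsgLib.GroupB.Coprime.commutator_commutator_eq hPA hcP (Or.inl hPs)).ge
  have hcards : Nat.card Q = p := by
    have h1 : (Q ⊓ centralizer (A : Set X)).relIndex Q ≤ p := by
      rw [show Q ⊓ centralizer (A : Set X) = D ⊓ Q by rw [hD, inf_right_comm, inf_eq_right.mpr hQP],
        inf_relIndex_right, ← hDidx]
      exact relIndex_le_of_le_right hQP (by rw [hDidx]; exact hp.out.ne_zero)
    rw [hQD, relIndex_bot_left] at h1
    obtain ⟨k, hk⟩ := (hPp.to_le hQP).exists_card_eq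
    rcases k with _ | _ | k
    · exfalso
      have hQ0 : Q = ⊥ := card_eq_one.mp (by rw [hk, pow_zero])
      have : P ≤ centralizer (A : Set X) := by rwa [← commutator_eq_bot_iff_le_centralizer]
      rw [hD, inf_eq_left.mpr this, relIndex_self] at hDidx
      exact hp.out.ne_one hDidx.symm
    · rw [hk, pow_one]
    · rw [hk] at h1
      exact absurd h1 (not_le.mpr (by
        calc p = p ^ 1 := (pow_one p).symm
          _ < _ := Nat.pow_lt_pow_right hp.out.one_lt (by omega)))
  -- the commutator set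
  set C := K ⊓ centralizer (A : Set X) with hC
  have hcq : ∀ k ∈ K, ∃ c ∈ C, ∃ q ∈ Q, c * q = k := by
    have hsub : (C : Set X) * (Q : Set X) ⊆ (K : Set X) := by
      rintro _ ⟨c, hc, q, hq, rfl⟩
      exact K.mul_mem hc.1 (hP.1 (hQP hq))
    have hinj : Nat.card ↥((C : Set X) * (Q : Set X)) = Nat.card C * Nat.card Q := by
      rw [← Nat.card_prod]
      refine (Nat.card_congr (Equiv.ofBijective (fun x : C × Q => (⟨(x.1 : X) * x.2, _, x.1.2, _, x.2.2, rfl⟩ : ↥((C : Set X) * (Q : Set X)))) ⟨?_, ?_⟩)).symm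
      · rintro ⟨⟨c, hc⟩, ⟨q, hq⟩⟩ ⟨⟨c', hc'⟩, ⟨q', hq'⟩⟩ h
        have h' : c * q = c' * q' := congrArg Subtype.val h
        have : q' * q⁻¹ ∈ Q ⊓ centralizer (A : Set X) := by
          refine ⟨Q.mul_mem hq' (Q.inv_mem hq), ?_⟩
          rw [show q' * q⁻¹ = c'⁻¹ * c by
            rw [eq_comm, inv_mul_eq_iff_eq_mul, ← mul_assoc, ← h', mul_inv_cancel_right]]
          exact (centralizer (A : Set X)).mul_mem ((centralizer (A : Set X)).inv_mem hc'.2) hc.2
        rw [hQD, mem_bot, mul_inv_eq_one] at this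
        subst this
        have := mul_right_cancel h'
        subst this
        rfl
      · rintro ⟨_, c, hc, q, hq, rfl⟩; exact ⟨(⟨c, hc⟩, ⟨q, hq⟩), rfl⟩
    have h2 := relIndex_mul_relIndex ⊥ C K bot_le inf_le_left
    rw [relIndex_bot_left, relIndex_bot_left, hidx] at h2
    rw [Nat.card_coe_set_eq, hcards, h2, ← SetLike.coe_sort_coe, Nat.card_coe_set_eq] at hinj
    have := Set.eq_of_subset_of_ncard_le hsub hinj.ge
    intro k hk
    rw [← SetLike.mem_coe, ← this] at hk
    exact hk
  have hle : ⁅K, A⁆ ≤ Q := by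
    rw [commutator_le]
    intro k hk a ha
    -- use the inverse to meet the right coset
    obtain ⟨c, hc, q, hq, hcq'⟩ := hcq k⁻¹ (K.inv_mem hk)
    have hk' : k = q⁻¹ * c⁻¹ := by rw [← mul_inv_rev, hcq', inv_inv]
    have hca : c⁻¹ * a = a * c⁻¹ :=
      (mem_centralizer_iff.mp ((centralizer (A : Set X)).inv_mem hc.2) a ha).symm
    have : ⁅k, a⁆ = q⁻¹ * (a * q * a⁻¹) := by
      rw [commutatorElement_def, hk']
      calc q⁻¹ * c⁻¹ * a * (q⁻¹ * c⁻¹)⁻¹ * a⁻¹ = q⁻¹ * (c⁻¹ * a) * c * q * a⁻¹ := by group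
        _ = _ := by rw [hca]; group
    rw [this]
    exact Q.mul_mem (Q.inv_mem hq) ((mem_normalizer_iff.mp (hQA ha) q).mp hq)
  rw [le_antisymm hle (commutator_mono hP.1 le_rfl), hcards]

end CfsgLib.Solvable.PrimeIndexFixed
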